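import Groth.Prelude.Def_Desc
import Mathlib.RingTheory.Flat.Basic

/-!
# Effectivity of descent data for modules along flat ring maps
-/

set_option autoImplicit false
set_option linter.style.haveILetI false
set_option backward.isDefEq.respectTransparency false
set_option backward.isDefEq.respectTransparency.types false

universe u

open CategoryTheory Opposite TensorProduct ChangeOfRings ModuleCat
open CategoryTheory.Pseudofunctor.LocallyDiscreteOpToCat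

namespace Groth.Agent.ModDescent

/-- Composition constraint of the pseudofunctor, on elements. -/
theorem mapComp'_hom_one_tmul {A B T : CommRingCat.{u}} (f : A ⟶ B) (g : B ⟶ T) (k : A ⟶ T) (hk : f ≫ g = k)
    (M : ModuleCat.{u} A) (m : M) :
    ((Desc.ringModPF.{u}.mapComp' f.op.op.toLoc g.op.op.toLoc k.op.op.toLoc (by subst hk; rfl)).hom.toNatTrans.app M).hom
      ((1 : T) ⊗ₜ[A, k.hom] m) = (1 : T) ⊗ₜ[B, g.hom] ((1 : B) ⊗ₜ[A, f.hom] m) := by
  subst hk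
  have e : Desc.ringModPF.{u}.mapComp' f.op.op.toLoc g.op.op.toLoc (f ≫ g).op.op.toLoc rfl =
      Desc.ringModPF.{u}.mapComp f.op.op.toLoc g.op.op.toLoc := Pseudofunctor.mapComp'_eq_mapComp _ _ _
  show ((Desc.ringModPF.{u}.mapComp' f.op.op.toLoc g.op.op.toLoc (f ≫ g).op.op.toLoc rfl).hom.toNatTrans.app M).hom _ = _
  rw [e]
  exact extendScalarsComp_hom_app_one_tmul f.hom g.hom M m

/-- Extending the scalars of an element of a scalar extension. -/
theorem tmul_balance {A B T : CommRingCat.{u}} (f : A ⟶ B) (g : B ⟶ T) (M : ModuleCat.{u} A) (t : T) (b : B) (m : M) :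
    (t * g.hom b) ⊗ₜ[B, g.hom] ((1 : B) ⊗ₜ[A, f.hom] m) = t ⊗ₜ[B, g.hom] (b ⊗ₜ[A, f.hom] m) := by
  letI : Module B T := Module.compHom T g.hom
  letI : Module A B := Module.compHom B f.hom
  have e : (b ⊗ₜ[A, f.hom] m : (extendScalars f.hom).obj M) = b • ((1 : B) ⊗ₜ[A, f.hom] m : (extendScalars f.hom).obj M) := by
    rw [ExtendScalars.smul_tmul, mul_one]
  rw [e, mul_comm]
  exact TensorProduct.smul_tmul b t _

theorem mapComp'_inv_one_tmul {A B T : CommRingCat.{u}} (f : A ⟶ B) (g : B ⟶ T) (k : A ⟶ T) (hk : f ≫ g = k)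
    (M : ModuleCat.{u} A) (x : B) (m : M) :
    ((Desc.ringModPF.{u}.mapComp' f.op.op.toLoc g.op.op.toLoc k.op.op.toLoc (by subst hk; rfl)).inv.toNatTrans.app M).hom
      ((1 : T) ⊗ₜ[B, g.hom] (x ⊗ₜ[A, f.hom] m)) = (g.hom x) ⊗ₜ[A, k.hom] m := by
  set Φ := Desc.ringModPF.{u}.mapComp' f.op.op.toLoc g.op.op.toLoc k.op.op.toLoc (by subst hk; rfl)
  have e : (Φ.hom.toNatTrans.app M).hom ((g.hom x) ⊗ₜ[A, k.hom] m) = (1 : T) ⊗ₜ[B, g.hom] (x ⊗ₜ[A, f.hom] m) := by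
    have e1 : ((g.hom x) ⊗ₜ[A, k.hom] m : (extendScalars k.hom).obj M) =
        g.hom x • ((1 : T) ⊗ₜ[A, k.hom] m : (extendScalars k.hom).obj M) := by
      rw [ExtendScalars.smul_tmul, mul_one]
    rw [e1]
    refine ((Φ.hom.toNatTrans.app M).hom.map_smul _ _).trans ?_
    rw [mapComp'_hom_one_tmul f g k hk M m]
    refine (ExtendScalars.smul_tmul g.hom _ _ _).trans ?_
    rw [mul_one, ← tmul_balance f g M (1 : T) x m, one_mul]
  rw [← e]
  exact congr((($(Φ.hom_inv_id)).toNatTrans.app M).hom ((g.hom x) ⊗ₜ[A, k.hom] m))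

variable {R S : CommRingCat.{u}} {p : R ⟶ S}
  (D : Desc.ringModPF.{u}.DescentData (fun _ : PUnit.{u + 1} => p.op))

/-- The module of a descent datum. -/
abbrev N : ModuleCat.{u} S := D.obj PUnit.unit

variable {T T' : CommRingCat.{u}} (f₁ f₂ : S ⟶ T) (h : p ≫ f₁ = p ≫ f₂)

/-- The glueing isomorphisms. -/
abbrev φ : (extendScalars f₁.hom).obj (N D) ⟶ (extendScalars f₂.hom).obj (N D) :=
  D.hom (p ≫ f₁).op f₁.op f₂.op rfl (by rw [h]; rfl)

theorem φ_self (g : S ⟶ T) (x : (extendScalars g.hom).obj (N D)) : (φ D g g rfl).hom x = x :=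
  congr(($(D.hom_self (p ≫ g).op g.op rfl)).hom x)

theorem φ_comp (f₃ : S ⟶ T) (h' : p ≫ f₂ = p ≫ f₃) (x : (extendScalars f₁.hom).obj (N D)) :
    (φ D f₂ f₃ h').hom ((φ D f₁ f₂ h).hom x) = (φ D f₁ f₃ (h.trans h')).hom x := by
  have e : φ D f₂ f₃ h' = D.hom (p ≫ f₁).op f₂.op f₃.op (by rw [h]; rfl) (by rw [h, h']; rfl) := by
    unfold φ
    congr 1
    rw [h]
  rw [e]
  exact congr(($(D.hom_comp (p ≫ f₁).op f₁.op f₂.op f₃.op rfl (by rw [h]; rfl) (by rw [h, h']; rfl))).hom x)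

theorem φ_natural (g : T ⟶ T') (n : N D) (y : (extendScalars f₂.hom).obj (N D))
    (hy : (φ D f₁ f₂ h).hom ((1 : T) ⊗ₜ[S, f₁.hom] n) = y) :
    (φ D (f₁ ≫ g) (f₂ ≫ g) (by rw [← Category.assoc, h, Category.assoc])).hom ((1 : T') ⊗ₜ[S, (f₁ ≫ g).hom] n) =
      ((Desc.ringModPF.{u}.mapComp' f₂.op.op.toLoc g.op.op.toLoc (f₂ ≫ g).op.op.toLoc rfl).inv.toNatTrans.app (N D)).hom
        ((1 : T') ⊗ₜ[T, g.hom] y) := by
  subst hy
  have hp := D.pullHom_hom g.op (p ≫ f₁).op (p ≫ f₁ ≫ g).op rfl (i₁ := PUnit.unit) (i₂ := PUnit.unit) f₁.op f₂.op rfl (by rw [h]; rfl)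
    (f₁ ≫ g).op (f₂ ≫ g).op rfl rfl
  unfold φ
  erw [← hp]
  unfold pullHom
  refine congrArg (((Desc.ringModPF.{u}.mapComp' f₂.op.op.toLoc g.op.op.toLoc (f₂ ≫ g).op.op.toLoc rfl).inv.toNatTrans.app (N D)).hom) ?_
  refine (congrArg _ (mapComp'_hom_one_tmul f₁ g (f₁ ≫ g) rfl (N D) n)).trans ?_
  rfl

end Groth.Agent.ModDescent
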