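import Groth.Agent.ModDescent.Basic
import Mathlib.RingTheory.TensorProduct.Basic
import Mathlib.RingTheory.Flat.Equalizer
import Mathlib.RingTheory.RingHom.Flat

/-!
# Effectivity of descent data for modules along flat ring maps
-/

set_option autoImplicit false
set_option linter.style.haveILetI false
set_option backward.isDefEq.respectTransparency false
set_option backward.isDefEq.respectTransparency.types false

universe u

open CategoryTheory Opposite TensorProduct ChangeOfRings ModuleCat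

namespace Groth.Agent.ModDescent

variable (R S : Type u) [CommRing R] [CommRing S] [Algebra R S]

/-- The category of descent data along `R → S`. -/
abbrev DD := Desc.ringModPF.{u}.DescentData (fun _ : PUnit.{u + 1} => (CommRingCat.ofHom (algebraMap R S)).op)

variable {R S} (D : DD R S)

noncomputable instance modR : Module R (N D) := Module.compHom (N D) (algebraMap R S)
instance : IsScalarTower R S (N D) := IsScalarTower.of_algebraMap_smul fun _ _ => rfl

theorem tmul_smul' {A T : CommRingCat.{u}} (f : A ⟶ T) (M : ModuleCat.{u} A) (t : T) (a : A) (m : M) :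
    (t * f.hom a) ⊗ₜ[A, f.hom] m = t ⊗ₜ[A, f.hom] (a • m) := by
  letI : Module A T := Module.compHom T f.hom
  rw [mul_comm]
  exact TensorProduct.smul_tmul a t m

section theta

variable {T : CommRingCat.{u}} (f₁ f₂ : CommRingCat.of S ⟶ T)
  (h : CommRingCat.ofHom (algebraMap R S) ≫ f₁ = CommRingCat.ofHom (algebraMap R S) ≫ f₂)

/-- `a ⊗ n ↦ f₁ a ⊗ n`. -/
noncomputable def θ : S ⊗[R] N D →+ (extendScalars f₂.hom).obj (N D) :=
  TensorProduct.liftAddHom
    (AddMonoidHom.mk' (fun a => AddMonoidHom.mk' (fun n : N D => ((f₁.hom a) ⊗ₜ[S, f₂.hom] n : (extendScalars f₂.hom).obj (N D)))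
      fun n n' => TensorProduct.tmul_add _ _ _) fun a a' => by ext n; simp [TensorProduct.add_tmul])
    fun r a n => by
      letI : Module S T := Module.compHom T f₂.hom
      show (f₁.hom (r • a)) ⊗ₜ[S, f₂.hom] n = (f₁.hom a) ⊗ₜ[S, f₂.hom] (algebraMap R S r • n)
      have e : f₁.hom (algebraMap R S r) = f₂.hom (algebraMap R S r) := congr(($h).hom r)
      rw [Algebra.smul_def, map_mul, e]
      exact TensorProduct.smul_tmul (algebraMap R S r) (f₁.hom a) n

theorem θ_tmul (a : S) (n : N D) :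
    θ D f₁ f₂ h (a ⊗ₜ[R] n) = ((f₁.hom a) ⊗ₜ[S, f₂.hom] n : (extendScalars f₂.hom).obj (N D)) := rfl

/-- `x ⊗ n ↦ g x ⊗ n` after composing. -/
theorem θ_natural {T' : CommRingCat.{u}} (g : T ⟶ T') (z : S ⊗[R] N D) :
    ((Desc.ringModPF.{u}.mapComp' f₂.op.op.toLoc g.op.op.toLoc (f₂ ≫ g).op.op.toLoc rfl).inv.toNatTrans.app (N D)).hom
        ((1 : T') ⊗ₜ[T, g.hom] θ D f₁ f₂ h z) =
      θ D (f₁ ≫ g) (f₂ ≫ g) (by rw [← Category.assoc, h, Category.assoc]) z := by
  induction z using TensorProduct.induction_on with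
  | zero => simp only [map_zero, TensorProduct.tmul_zero]
  | tmul a n => exact mapComp'_inv_one_tmul f₂ g (f₂ ≫ g) rfl (N D) (f₁.hom a) n
  | add z w hz hw =>
    rw [map_add, TensorProduct.tmul_add]
    refine (map_add _ _ _).trans ?_
    rw [hz, hw, map_add]

end theta

/-- `S ⊗ S`. -/
abbrev T₂ : CommRingCat.{u} := CommRingCat.of (S ⊗[R] S)

/-- The left inclusion. -/
noncomputable abbrev j₁ : CommRingCat.of S ⟶ T₂ (R := R) (S := S) := CommRingCat.ofHom Algebra.TensorProduct.includeLeftRingHom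

/-- The right inclusion. -/
noncomputable abbrev j₂ : CommRingCat.of S ⟶ T₂ (R := R) (S := S) :=
  CommRingCat.ofHom (Algebra.TensorProduct.includeRight : S →ₐ[R] S ⊗[R] S).toRingHom

theorem j_comp : CommRingCat.ofHom (algebraMap R S) ≫ j₁ (R := R) (S := S) = CommRingCat.ofHom (algebraMap R S) ≫ j₂ (R := R) (S := S) := by
  ext r
  exact (Algebra.TensorProduct.tmul_one_eq_one_tmul (A := S) (B := S) r)

/-- `(a ⊗ b) ⊗ n ↦ a ⊗ b n`. -/
noncomputable def κ : (extendScalars (j₂ (R := R) (S := S)).hom).obj (N D) →+ S ⊗[R] N D :=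
  letI : Module S (T₂ (R := R) (S := S)) := Module.compHom _ (j₂ (R := R) (S := S)).hom
  TensorProduct.liftAddHom
    (AddMonoidHom.mk' (fun x : (S ⊗[R] S) => AddMonoidHom.mk' (fun n : N D =>
      LinearMap.lTensor S ((LinearMap.toSpanSingleton S (N D) n).restrictScalars R) x)
      fun n n' => by
        show _ = _
        induction x using TensorProduct.induction_on with
        | zero => simp
        | tmul a b => simp [TensorProduct.tmul_add, smul_add]
        | add x y hx hy => simp only [map_add, hx, hy]; abel) fun x y => by ext n; simp)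
    fun s x n => by
      change S ⊗[R] S at x
      show LinearMap.lTensor S _ (((1 : S) ⊗ₜ[R] s) * x) = LinearMap.lTensor S _ x
      induction x using TensorProduct.induction_on with
      | zero => simp
      | tmul a b => simp [smul_smul, mul_comm s b]
      | add x y hx hy => rw [mul_add, map_add, map_add, hx, hy]

theorem κ_tmul (a b : S) (n : N D) :
    κ D (((a ⊗ₜ[R] b) : S ⊗[R] S) ⊗ₜ[S, (j₂ (R := R) (S := S)).hom] n : (extendScalars (j₂ (R := R) (S := S)).hom).obj (N D)) = a ⊗ₜ[R] (b • n) := rfl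

theorem θ_κ (z : (extendScalars (j₂ (R := R) (S := S)).hom).obj (N D)) : θ D j₁ j₂ j_comp (κ D z) = z := by
  letI : Module S (T₂ (R := R) (S := S)) := Module.compHom _ (j₂ (R := R) (S := S)).hom
  induction z using TensorProduct.induction_on with
  | zero => simp only [map_zero]
  | tmul x n =>
    induction x using TensorProduct.induction_on with
    | zero => simp only [TensorProduct.zero_tmul, map_zero]
    | tmul a b =>
      refine (congrArg _ (κ_tmul D a b n)).trans ((θ_tmul D _ _ _ a (b • n)).trans ?_)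
      refine (tmul_smul' (j₂ (R := R) (S := S)) (N D) ((j₁ (R := R) (S := S)).hom a) b n).symm.trans ?_
      have e : ((a ⊗ₜ[R] (1 : S)) * ((1 : S) ⊗ₜ[R] b) : S ⊗[R] S) = a ⊗ₜ[R] b := by simp
      exact congrArg (fun y : S ⊗[R] S => ((y : T₂ (R := R) (S := S)) ⊗ₜ[S, (j₂ (R := R) (S := S)).hom] n : (extendScalars (j₂ (R := R) (S := S)).hom).obj (N D))) e
    | add x y hx hy =>
      rw [TensorProduct.add_tmul, map_add, map_add]
      exact congrArg₂ _ hx hy
  | add z w hz hw =>
    refine (congrArg _ (map_add (κ D) z w)).trans ((map_add _ _ _).trans ?_)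
    exact congrArg₂ _ hz hw

theorem κ_smul (s : S) (z : (extendScalars (j₂ (R := R) (S := S)).hom).obj (N D)) :
    κ D ((j₁ (R := R) (S := S)).hom s • z) = s • κ D z := by
  letI : Module S (T₂ (R := R) (S := S)) := Module.compHom _ (j₂ (R := R) (S := S)).hom
  induction z using TensorProduct.induction_on with
  | zero => rw [smul_zero]; simp
  | tmul x n =>
    induction x using TensorProduct.induction_on with
    | zero => rw [TensorProduct.zero_tmul, smul_zero]; simp
    | tmul a b =>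
      rw [ExtendScalars.smul_tmul]
      show κ D (((s ⊗ₜ[R] (1 : S)) * (a ⊗ₜ[R] b)) ⊗ₜ[S, (j₂ (R := R) (S := S)).hom] n) = _
      rw [Algebra.TensorProduct.tmul_mul_tmul, one_mul, κ_tmul]
      refine Eq.trans ?_ (congrArg _ (κ_tmul D a b n)).symm
      rw [TensorProduct.smul_tmul', smul_eq_mul]
    | add x y hx hy =>
      rw [TensorProduct.add_tmul]
      refine (congrArg _ (smul_add _ _ _)).trans ((map_add _ _ _).trans ?_)
      refine (congrArg₂ _ hx hy).trans ((smul_add _ _ _).symm.trans (congrArg _ (map_add _ _ _).symm))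
  | add z w hz hw =>
    rw [smul_add, map_add, hz, hw, map_add, smul_add]

/-- The coaction. -/
noncomputable def α : N D →ₗ[S] S ⊗[R] N D where
  toFun n := κ D ((φ D j₁ j₂ j_comp).hom ((1 : T₂ (R := R) (S := S)) ⊗ₜ[S, (j₁ (R := R) (S := S)).hom] n))
  map_add' n n' := by
    rw [TensorProduct.tmul_add]
    refine (congrArg _ (map_add _ _ _)).trans (map_add _ _ _)
  map_smul' s n := by
    letI : Module S (T₂ (R := R) (S := S)) := Module.compHom _ (j₁ (R := R) (S := S)).hom
    have e : ((1 : T₂ (R := R) (S := S)) ⊗ₜ[S, (j₁ (R := R) (S := S)).hom] (s • n) : (extendScalars (j₁ (R := R) (S := S)).hom).obj (N D)) =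
        (j₁ (R := R) (S := S)).hom s • ((1 : T₂ (R := R) (S := S)) ⊗ₜ[S, (j₁ (R := R) (S := S)).hom] n : (extendScalars (j₁ (R := R) (S := S)).hom).obj (N D)) := by
      rw [ExtendScalars.smul_tmul, mul_one, ← tmul_smul' (j₁ (R := R) (S := S)) (N D), one_mul]
    rw [e]
    exact (congrArg _ ((φ D j₁ j₂ j_comp).hom.map_smul _ _)).trans (κ_smul D s _)

/-- The glueing maps are determined by the coaction. -/
theorem φ_one_tmul {T : CommRingCat.{u}} (f₁ f₂ : CommRingCat.of S ⟶ T)
    (h : CommRingCat.ofHom (algebraMap R S) ≫ f₁ = CommRingCat.ofHom (algebraMap R S) ≫ f₂) (n : N D) :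
    (φ D f₁ f₂ h).hom ((1 : T) ⊗ₜ[S, f₁.hom] n) = θ D f₁ f₂ h (α D n) := by
  obtain ⟨g, rfl, rfl⟩ : ∃ g : T₂ (R := R) (S := S) ⟶ T, f₁ = j₁ ≫ g ∧ f₂ = j₂ ≫ g := by
    letI : Algebra R T := (f₁.hom.comp (algebraMap R S)).toAlgebra
    let a₁ : S →ₐ[R] T := ⟨f₁.hom, fun r => rfl⟩
    let a₂ : S →ₐ[R] T := ⟨f₂.hom, fun r => congr(($h.symm).hom r)⟩
    refine ⟨CommRingCat.ofHom (Algebra.TensorProduct.lift a₁ a₂ fun _ _ => Commute.all _ _).toRingHom, ?_, ?_⟩
    · ext a
      show a₁ a = Algebra.TensorProduct.lift a₁ a₂ (fun _ _ => Commute.all _ _) (a ⊗ₜ 1)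
      simp
    · ext a
      show a₂ a = Algebra.TensorProduct.lift a₁ a₂ (fun _ _ => Commute.all _ _) (1 ⊗ₜ a)
      simp
  refine (φ_natural D j₁ j₂ j_comp g n _ rfl).trans ?_
  rw [← θ_natural D j₁ j₂ j_comp g]
  congr 2
  exact (θ_κ D _).symm

/-- `b ⊗ n ↦ b n`. -/
noncomputable def μ : S ⊗[R] N D →ₗ[R] N D :=
  TensorProduct.lift ((LinearMap.lsmul S (N D)).restrictScalars₁₂ R R)

theorem μ_tmul (b : S) (n : N D) : μ D (b ⊗ₜ[R] n) = b • n := rfl

/-- `1 ⊗ n`. -/
noncomputable def ι : N D →ₗ[R] S ⊗[R] N D := TensorProduct.mk R S (N D) 1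

theorem counit (n : N D) : μ D (α D n) = n := by
  have h1 := φ_one_tmul D (𝟙 (CommRingCat.of S)) (𝟙 _) rfl n
  rw [φ_self] at h1
  have key : ∀ z, ((extendScalarsId (CommRingCat.of S)).hom.app (N D)).hom (θ D (𝟙 (CommRingCat.of S)) (𝟙 _) rfl z) = μ D z := by
    intro z
    induction z using TensorProduct.induction_on with
    | zero => exact (congrArg _ (map_zero _)).trans ((map_zero _).trans (map_zero _).symm)
    | tmul a m =>
      rw [μ_tmul, θ_tmul]
      have e : ((a ⊗ₜ[S, (𝟙 (CommRingCat.of S) : CommRingCat.of S ⟶ _).hom] m) : (extendScalars (𝟙 (CommRingCat.of S) : CommRingCat.of S ⟶ _).hom).obj (N D)) =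
          a • ((1 : S) ⊗ₜ[S, (𝟙 (CommRingCat.of S) : CommRingCat.of S ⟶ _).hom] m : (extendScalars (𝟙 (CommRingCat.of S) : CommRingCat.of S ⟶ _).hom).obj (N D)) := by
        rw [ExtendScalars.smul_tmul, mul_one]
      refine (congrArg _ e).trans ((((extendScalarsId (CommRingCat.of S)).hom.app (N D)).hom.map_smul a _).trans ?_)
      exact congrArg (a • ·) (extendScalarsId_hom_app_one_tmul (R := CommRingCat.of S) (N D) m)
    | add z w hz hw => exact (congrArg _ (map_add _ _ _)).trans ((map_add _ _ _).trans ((congrArg₂ _ hz hw).trans (map_add _ _ _).symm))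
  rw [← key, ← h1]
  exact extendScalarsId_hom_app_one_tmul (R := CommRingCat.of S) (N D) n

/-- `S ⊗ S ⊗ S`. -/
abbrev T₃ : CommRingCat.{u} := CommRingCat.of (S ⊗[R] (S ⊗[R] S))

/-- First inclusion. -/
noncomputable abbrev k₁ : CommRingCat.of S ⟶ T₃ (R := R) (S := S) := CommRingCat.ofHom Algebra.TensorProduct.includeLeftRingHom

/-- Second inclusion. -/
noncomputable abbrev k₂ : CommRingCat.of S ⟶ T₃ (R := R) (S := S) :=
  j₁ ≫ CommRingCat.ofHom (Algebra.TensorProduct.includeRight : S ⊗[R] S →ₐ[R] S ⊗[R] (S ⊗[R] S)).toRingHom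

/-- Third inclusion. -/
noncomputable abbrev k₃ : CommRingCat.of S ⟶ T₃ (R := R) (S := S) :=
  j₂ ≫ CommRingCat.ofHom (Algebra.TensorProduct.includeRight : S ⊗[R] S →ₐ[R] S ⊗[R] (S ⊗[R] S)).toRingHom

theorem k₁₂ : CommRingCat.ofHom (algebraMap R S) ≫ k₁ (R := R) (S := S) = CommRingCat.ofHom (algebraMap R S) ≫ k₂ (R := R) (S := S) := by
  ext r
  exact (Algebra.TensorProduct.tmul_one_eq_one_tmul (A := S) (B := S ⊗[R] S) r)

theorem k₂₃ : CommRingCat.ofHom (algebraMap R S) ≫ k₂ (R := R) (S := S) = CommRingCat.ofHom (algebraMap R S) ≫ k₃ (R := R) (S := S) := by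
  rw [← Category.assoc, j_comp, Category.assoc]

/-- `(a ⊗ x) ⊗ n ↦ a ⊗ x n`. -/
noncomputable def κ₃ : (extendScalars (k₃ (R := R) (S := S)).hom).obj (N D) →+ S ⊗[R] (S ⊗[R] N D) :=
  letI : Module S (T₃ (R := R) (S := S)) := Module.compHom _ (k₃ (R := R) (S := S)).hom
  TensorProduct.liftAddHom
    (AddMonoidHom.mk' (fun x : (S ⊗[R] (S ⊗[R] S)) => AddMonoidHom.mk' (fun n : N D =>
      LinearMap.lTensor S (LinearMap.lTensor S ((LinearMap.toSpanSingleton S (N D) n).restrictScalars R)) x)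
      fun n n' => by
        show _ = _
        induction x using TensorProduct.induction_on with
        | zero => simp
        | tmul a b =>
          induction b using TensorProduct.induction_on with
          | zero => simp
          | tmul b c => simp [TensorProduct.tmul_add, smul_add]
          | add b c hb hc => rw [TensorProduct.tmul_add, map_add, map_add, map_add, hb, hc]; abel
        | add x y hx hy => simp only [map_add, hx, hy]; abel) fun x y => by ext n; simp)
    fun s x n => by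
      change S ⊗[R] (S ⊗[R] S) at x
      show LinearMap.lTensor S _ (((1 : S) ⊗ₜ[R] ((1 : S) ⊗ₜ[R] s)) * x) = LinearMap.lTensor S _ x
      induction x using TensorProduct.induction_on with
      | zero => simp
      | tmul a b =>
        induction b using TensorProduct.induction_on with
        | zero => simp
        | tmul b c => simp [smul_smul, mul_comm s c]
        | add b c hb hc => rw [TensorProduct.tmul_add, mul_add, map_add, map_add, hb, hc]
      | add x y hx hy => rw [mul_add, map_add, map_add, hx, hy]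

theorem κ₃_tmul (a b c : S) (n : N D) :
    κ₃ D (((a ⊗ₜ[R] (b ⊗ₜ[R] c)) : S ⊗[R] (S ⊗[R] S)) ⊗ₜ[S, (k₃ (R := R) (S := S)).hom] n : (extendScalars (k₃ (R := R) (S := S)).hom).obj (N D)) =
      a ⊗ₜ[R] (b ⊗ₜ[R] (c • n)) := rfl

theorem coassoc (n : N D) : LinearMap.lTensor S ((α D).restrictScalars R) (α D n) = LinearMap.lTensor S (ι D) (α D n) := by
  have key1 : ∀ z, κ₃ D ((φ D k₂ k₃ k₂₃).hom (θ D k₁ k₂ k₁₂ z)) = LinearMap.lTensor S ((α D).restrictScalars R) z := by
    intro z
    induction z using TensorProduct.induction_on with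
    | zero => exact (congrArg (fun y => κ₃ D ((φ D k₂ k₃ k₂₃).hom y)) (map_zero _)).trans ((congrArg _ (map_zero _)).trans ((map_zero _).trans (map_zero _).symm))
    | tmul a m =>
      have e : ((k₁ (R := R) (S := S)).hom a ⊗ₜ[S, (k₂ (R := R) (S := S)).hom] m : (extendScalars (k₂ (R := R) (S := S)).hom).obj (N D)) =
          (k₁ (R := R) (S := S)).hom a • ((1 : T₃ (R := R) (S := S)) ⊗ₜ[S, (k₂ (R := R) (S := S)).hom] m : (extendScalars (k₂ (R := R) (S := S)).hom).obj (N D)) := by
        rw [ExtendScalars.smul_tmul, mul_one]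
      rw [θ_tmul, e]
      refine (congrArg _ ((φ D k₂ k₃ k₂₃).hom.map_smul _ _)).trans ?_
      rw [φ_one_tmul]
      show _ = a ⊗ₜ[R] α D m
      induction α D m using TensorProduct.induction_on with
      | zero => simp only [map_zero, smul_zero, TensorProduct.tmul_zero]
      | tmul b c =>
        rw [θ_tmul, ExtendScalars.smul_tmul]
        show κ₃ D (((a ⊗ₜ[R] (1 : S ⊗[R] S)) * ((1 : S) ⊗ₜ[R] (b ⊗ₜ[R] (1 : S)))) ⊗ₜ[S, (k₃ (R := R) (S := S)).hom] c) = _
        rw [Algebra.TensorProduct.tmul_mul_tmul, mul_one, one_mul, κ₃_tmul, one_smul]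
      | add x y hx hy => rw [map_add, smul_add, map_add, hx, hy, TensorProduct.tmul_add]
    | add z w hz hw =>
      refine Eq.trans ?_ (map_add _ _ _).symm
      exact (congrArg (fun y => κ₃ D ((φ D k₂ k₃ k₂₃).hom y)) (map_add _ _ _)).trans ((congrArg _ (map_add _ _ _)).trans ((map_add _ _ _).trans (congrArg₂ _ hz hw)))
  have key2 : ∀ z, κ₃ D (θ D k₁ k₃ (k₁₂.trans k₂₃) z) = LinearMap.lTensor S (ι D) z := by
    intro z
    induction z using TensorProduct.induction_on with
    | zero => exact (congrArg _ (map_zero _)).trans ((map_zero _).trans (map_zero _).symm)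
    | tmul a m =>
      rw [θ_tmul]
      show κ₃ D (((a ⊗ₜ[R] ((1 : S) ⊗ₜ[R] (1 : S)))) ⊗ₜ[S, (k₃ (R := R) (S := S)).hom] m) = _
      rw [κ₃_tmul, one_smul]
      rfl
    | add z w hz hw => rw [map_add, map_add, map_add, hz, hw]
  rw [← key1, ← key2, ← φ_one_tmul D k₁ k₂ k₁₂, φ_comp D k₁ k₂ k₁₂ k₃ k₂₃, φ_one_tmul]

/-- The descended module. -/
noncomputable abbrev M : Submodule R (N D) := LinearMap.ker ((α D).restrictScalars R - ι D)

/-- The comparison map. -/
noncomputable def e : S ⊗[R] M D →ₗ[S] N D := (M D).subtype.liftBaseChange S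

theorem e_tmul (a : S) (m : M D) : e D (a ⊗ₜ[R] m) = a • (m : N D) := rfl

theorem e_bijective (hinj : Function.Injective (LinearMap.lTensor S (M D).subtype))
    (hker : ∀ x, LinearMap.lTensor S ((α D).restrictScalars R - ι D) x = 0 → x ∈ LinearMap.range (LinearMap.lTensor S (M D).subtype)) :
    Function.Bijective (e D) := by
  have hα : ∀ z, α D (e D z) = LinearMap.lTensor S (M D).subtype z := by
    intro z
    induction z using TensorProduct.induction_on with
    | zero => simp
    | tmul a m =>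
      have hm : α D (m : N D) = ι D (m : N D) := sub_eq_zero.1 m.2
      rw [e_tmul, map_smul, hm]
      show a • ((1 : S) ⊗ₜ[R] (m : N D)) = a ⊗ₜ[R] (m : N D)
      rw [TensorProduct.smul_tmul', smul_eq_mul, mul_one]
    | add z w hz hw => simp only [map_add, hz, hw]
  have hμ : ∀ z, μ D (LinearMap.lTensor S (M D).subtype z) = e D z := by
    intro z
    induction z using TensorProduct.induction_on with
    | zero => simp
    | tmul a m => rfl
    | add z w hz hw => simp only [map_add, hz, hw]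
  refine ⟨fun x y hxy => hinj (by rw [← hα, ← hα, hxy]), fun n => ?_⟩
  have hmem : α D n ∈ LinearMap.range (LinearMap.lTensor S (M D).subtype) :=
    hker _ (by rw [LinearMap.lTensor_sub, LinearMap.sub_apply, coassoc, sub_self])
  obtain ⟨z, hz⟩ := hmem
  exact ⟨z, by rw [← hμ, hz, counit]⟩

/-- Descent data along flat ring maps are effective. -/
theorem effective_of_bijective {R S : Type u} [CommRing R] [CommRing S] (f : R →+* S)
    (D : Desc.ringModPF.{u}.DescentData (fun _ : PUnit.{u + 1} => (CommRingCat.ofHom f).op))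
    (hb : letI := f.toAlgebra; Function.Bijective (e (R := R) (S := S) D)) :
    ∃ M : ModuleCat.{u} R, Nonempty ((Desc.ringModPF.{u}.toDescentData (fun _ : PUnit.{u + 1} => (CommRingCat.ofHom f).op)).obj M ≅ D) := by
  letI : Algebra R S := f.toAlgebra
  let D : DD R S := D
  let p : CommRingCat.of R ⟶ CommRingCat.of S := CommRingCat.ofHom f
  let E : (extendScalars p.hom).obj (ModuleCat.of R (M D)) ≅ N D :=
    LinearEquiv.toModuleIso (LinearEquiv.ofBijective (e D) hb)
  refine ⟨ModuleCat.of R (M D), ⟨Pseudofunctor.DescentData.isoMk (fun _ => E) fun Y q i₁ i₂ f₁' f₂' hf₁ hf₂ => ?_⟩⟩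
  obtain ⟨T⟩ := Y
  obtain ⟨f₁, rfl⟩ : ∃ f : CommRingCat.of S ⟶ T, f.op = f₁' := ⟨f₁'.unop, rfl⟩
  obtain ⟨f₂, rfl⟩ : ∃ f : CommRingCat.of S ⟶ T, f.op = f₂' := ⟨f₂'.unop, rfl⟩
  obtain rfl : (p ≫ f₁).op = q := hf₁
  have h : p ≫ f₁ = p ≫ f₂ := Quiver.Hom.op_inj hf₂.symm
  apply ModuleCat.ExtendScalars.hom_ext
  intro z
  induction z using TensorProduct.induction_on with
  | zero => simp only [TensorProduct.tmul_zero, map_zero]
  | add z w hz hw => rw [TensorProduct.tmul_add, map_add, map_add, hz, hw]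
  | tmul a m =>
    have hm : α D (m : N D) = (1 : S) ⊗ₜ[R] (m : N D) := sub_eq_zero.1 m.2
    show (φ D f₁ f₂ h).hom ((1 : T) ⊗ₜ[S, f₁.hom] (a • (m : N D))) =
      ((extendScalars f₂.hom).map E.hom).hom
        (((Desc.ringModPF.{u}.mapComp' p.op.op.toLoc f₂.op.op.toLoc (p ≫ f₁).op.op.toLoc (by rw [h]; rfl)).hom.toNatTrans.app _).hom
          (((Desc.ringModPF.{u}.mapComp' p.op.op.toLoc f₁.op.op.toLoc (p ≫ f₁).op.op.toLoc rfl).inv.toNatTrans.app _).hom
            ((1 : T) ⊗ₜ[S, f₁.hom] (a ⊗ₜ[R, p.hom] m))))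
    rw [mapComp'_inv_one_tmul p f₁ (p ≫ f₁) rfl]
    have e1 : ((f₁.hom a) ⊗ₜ[R, (p ≫ f₁).hom] m : (extendScalars (p ≫ f₁).hom).obj (ModuleCat.of R (M D))) =
        f₁.hom a • ((1 : T) ⊗ₜ[R, (p ≫ f₁).hom] m : (extendScalars (p ≫ f₁).hom).obj (ModuleCat.of R (M D))) := by
      rw [ExtendScalars.smul_tmul, mul_one]
    rw [e1]
    refine Eq.trans ?_ (congrArg _ (((Desc.ringModPF.{u}.mapComp' p.op.op.toLoc f₂.op.op.toLoc (p ≫ f₁).op.op.toLoc (by rw [h]; rfl)).hom.toNatTrans.app _).hom.map_smul _ _)).symm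
    rw [mapComp'_hom_one_tmul p f₂ (p ≫ f₁) h.symm (ModuleCat.of R (M D)) m]
    refine Eq.trans ?_ (((extendScalars f₂.hom).map E.hom).hom.map_smul _ _).symm
    have e2 : ((1 : T) ⊗ₜ[S, f₁.hom] (a • (m : N D)) : (extendScalars f₁.hom).obj (N D)) =
        f₁.hom a • ((1 : T) ⊗ₜ[S, f₁.hom] (m : N D) : (extendScalars f₁.hom).obj (N D)) := by
      rw [ExtendScalars.smul_tmul, mul_one, ← tmul_smul' f₁ (N D), one_mul]
    rw [e2]
    refine ((φ D f₁ f₂ h).hom.map_smul _ _).trans (congrArg _ ?_)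
    rw [φ_one_tmul, hm, θ_tmul, map_one]
    show (1 : T) ⊗ₜ[S, f₂.hom] (m : N D) = (1 : T) ⊗ₜ[S, f₂.hom] (e D ((1 : S) ⊗ₜ[R] m))
    rw [e_tmul, one_smul]

/-- Descent data along flat ring maps are effective. -/
theorem effective {R S : Type u} [CommRing R] [CommRing S] (f : R →+* S) (hf : f.Flat)
    (D : Desc.ringModPF.{u}.DescentData (fun _ : PUnit.{u + 1} => (CommRingCat.ofHom f).op)) :
    ∃ M : ModuleCat.{u} R, Nonempty ((Desc.ringModPF.{u}.toDescentData (fun _ : PUnit.{u + 1} => (CommRingCat.ofHom f).op)).obj M ≅ D) := by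
  letI : Algebra R S := f.toAlgebra
  haveI : Module.Flat R S := hf
  refine effective_of_bijective f D (e_bijective (R := R) (S := S) D
    (Module.Flat.lTensor_preserves_injective_linearMap _ Subtype.val_injective) fun x hx => ?_)
  rw [← (Module.Flat.lTensor_exact S (LinearMap.exact_subtype_ker_map _)).linearMap_ker_eq]
  exact hx

end Groth.Agent.ModDescent
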