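import Mathlib.Algebra.Module.CharacterModule
import Mathlib.RingTheory.TensorProduct.Basic
import Mathlib.LinearAlgebra.TensorProduct.RightExactness
import Groth.Prelude.Def_Pi1

/-!
# Equalizers along universally injective ring maps
-/

set_option autoImplicit false
set_option linter.style.haveILetI false
set_option backward.isDefEq.respectTransparency false
set_option backward.isDefEq.respectTransparency.types false

universe u

open TensorProduct

namespace Groth.Agent.ModDescent

variable {R S : Type u} [CommRing R] [CommRing S] [Algebra R S]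

/-- `n ↦ 1 ⊗ n`. -/
noncomputable abbrev ι₀ (R S : Type u) [CommRing R] [CommRing S] [Algebra R S] (P : Type u) [AddCommGroup P] [Module R P] :
    P →ₗ[R] S ⊗[R] P := TensorProduct.mk R S P 1

theorem ι₀_injective (h : Pi1.UnivInjective R S) (P : Type u) [AddCommGroup P] [Module R P] :
    Function.Injective (ι₀ R S P) := by
  intro x y e
  have e' : ∀ z : P, TensorProduct.comm R P S (LinearMap.lTensor P (Algebra.linearMap R S) (z ⊗ₜ[R] (1 : R))) = (1 : S) ⊗ₜ[R] z := fun z => by simp
  have := (TensorProduct.comm R P S).injective (show TensorProduct.comm R P S (LinearMap.lTensor P (Algebra.linearMap R S) (x ⊗ₜ[R] (1 : R))) =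
    TensorProduct.comm R P S (LinearMap.lTensor P (Algebra.linearMap R S) (y ⊗ₜ[R] (1 : R))) by rw [e', e']; exact e)
  have := congrArg (TensorProduct.rid R P) (h P this)
  simpa using this

/-- Flipping the arguments of a character valued map. -/
noncomputable def flipChar {A B : Type u} [AddCommGroup A] [Module R A] [AddCommGroup B] [Module R B]
    (L : A →ₗ[R] CharacterModule B) : B →ₗ[R] CharacterModule A :=
  CharacterModule.curry (CharacterModule.dual (TensorProduct.comm R B A).toLinearMap (CharacterModule.uncurry L))

/-- The dual of the structure map of a universally injective algebra has a section. -/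
theorem exists_section (h : Pi1.UnivInjective R S) :
    ∃ sec : CharacterModule R →ₗ[R] CharacterModule S, ∀ c, sec c 1 = c 1 := by
  let j := Algebra.linearMap R S
  have hj : Function.Injective (j.lTensor (CharacterModule R)) := h (CharacterModule R)
  have hj' : Function.Injective (j.rTensor (CharacterModule R)) := by
    intro a b hab
    apply (TensorProduct.comm R R (CharacterModule R)).injective
    apply hj
    have e : ∀ z, j.lTensor (CharacterModule R) (TensorProduct.comm R R (CharacterModule R) z) =
        TensorProduct.comm R S (CharacterModule R) (j.rTensor (CharacterModule R) z) := fun z => by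
      induction z using TensorProduct.induction_on with
      | zero => simp
      | tmul r c => simp
      | add z w hz hw => simp only [map_add, hz, hw]
    rw [e, e, hab]
  obtain ⟨L, hL⟩ := rTensor_injective_iff_lcomp_surjective.1 hj'
    (LinearMap.toSpanSingleton R (CharacterModule (CharacterModule R)) (AddMonoidHom.mk' (fun c : CharacterModule R => c 1) fun _ _ => rfl))
  refine ⟨flipChar L, fun c => ?_⟩
  have := congr(($hL (1 : R)) c)
  simp only [LinearMap.lcomp_apply, j, Algebra.linearMap_apply, map_one, LinearMap.toSpanSingleton_apply, one_smul] at this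
  exact this

variable {sec : CharacterModule R →ₗ[R] CharacterModule S} (hsec : ∀ c, sec c 1 = c 1)

/-- The natural lift of a character. -/
noncomputable def σ (sec : CharacterModule R →ₗ[R] CharacterModule S) (P : Type u) [AddCommGroup P] [Module R P] :
    CharacterModule P →ₗ[R] CharacterModule (S ⊗[R] P) :=
  CharacterModule.dual (TensorProduct.comm R S P).toLinearMap ∘ₗ CharacterModule.uncurry ∘ₗ
    (LinearMap.llcomp R P (CharacterModule R) (CharacterModule S) sec) ∘ₗ CharacterModule.curry ∘ₗ
    CharacterModule.dual (TensorProduct.rid R P).toLinearMap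

theorem σ_tmul (P : Type u) [AddCommGroup P] [Module R P] (χ : CharacterModule P) (s : S) (n : P) :
    σ sec P χ (s ⊗ₜ[R] n) = sec (CharacterModule.curry (CharacterModule.dual (TensorProduct.rid R P).toLinearMap χ) n) s := rfl

include hsec in
theorem σ_one_tmul (P : Type u) [AddCommGroup P] [Module R P] (χ : CharacterModule P) (n : P) :
    σ sec P χ ((1 : S) ⊗ₜ[R] n) = χ n := by
  rw [σ_tmul, hsec]
  show χ ((1 : R) • n) = χ n
  rw [one_smul]

theorem σ_natural {P Q : Type u} [AddCommGroup P] [Module R P] [AddCommGroup Q] [Module R Q] (f : P →ₗ[R] Q)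
    (χ : CharacterModule Q) : σ sec P (CharacterModule.dual f χ) = CharacterModule.dual (f.lTensor S) (σ sec Q χ) := by
  ext z
  induction z using TensorProduct.induction_on with
  | zero => simp
  | tmul s n =>
    show _ = σ sec Q χ (s ⊗ₜ[R] f n)
    rw [σ_tmul, σ_tmul]
    congr 2
    ext r
    show χ (f (r • n)) = χ (r • f n)
    rw [map_smul]
  | add a b ha hb => rw [map_add, map_add, ha, hb]

variable {P : Type u} [AddCommGroup P] [Module R P] (A : P →ₗ[R] S ⊗[R] P)
  (hA : ∀ n, A.lTensor S (A n) = (ι₀ R S P).lTensor S (A n))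

include hsec hA in
theorem split_core :
    Function.Injective ((LinearMap.ker (A - ι₀ R S P)).subtype.lTensor S) ∧
      ∀ x, (A - ι₀ R S P).lTensor S x = 0 → x ∈ LinearMap.range ((LinearMap.ker (A - ι₀ R S P)).subtype.lTensor S) := by
  set d := A - ι₀ R S P
  set K := LinearMap.ker d
  -- the idempotent
  let p : CharacterModule P →ₗ[R] CharacterModule P := CharacterModule.dual A ∘ₗ σ sec P
  have hp : ∀ χ, p (CharacterModule.dual A χ) = p (CharacterModule.dual (ι₀ R S P) χ) := by
    intro χ
    ext n
    show σ sec P (CharacterModule.dual A χ) (A n) = σ sec P (CharacterModule.dual (ι₀ R S P) χ) (A n)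
    rw [σ_natural, σ_natural]
    exact congrArg (σ sec _ χ) (hA n)
  have hdual : ∀ χ, CharacterModule.dual d χ = CharacterModule.dual A χ - CharacterModule.dual (ι₀ R S P) χ := fun χ => by
    ext n; exact map_sub χ (A n) _
  let res := CharacterModule.dual K.subtype
  have hres : ∀ χ, res (p χ) = res χ := fun χ => by
    ext ⟨k, hk⟩
    show σ sec P χ (A k) = χ k
    rw [show A k = ι₀ R S P k from sub_eq_zero.1 hk]
    exact σ_one_tmul hsec P χ k
  have hrange : ∀ χ, res χ = 0 → ∃ w, CharacterModule.dual d w = χ := by
    intro χ hχ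
    obtain ⟨w, hw⟩ := CharacterModule.dual_surjective_of_injective (K.liftQ d le_rfl)
      (LinearMap.ker_eq_bot.1 (Submodule.ker_liftQ_eq_bot _ _ _ le_rfl))
      (AddMonoidHom.mk' (fun q => QuotientAddGroup.lift K.toAddSubgroup χ (fun k hk => congr($hχ ⟨k, hk⟩)) q)
        fun a b => map_add _ a b)
    refine ⟨w, ?_⟩
    ext n
    exact congr($hw (Submodule.Quotient.mk n))
  have hnorm : ∀ χ, res χ = 0 → CharacterModule.dual d (-(σ sec P χ)) = χ := by
    intro χ hχ
    obtain ⟨w, rfl⟩ := hrange χ hχ
    have hp0 : p (CharacterModule.dual d w) = 0 := by rw [hdual, map_sub, hp, sub_self]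
    rw [map_neg, hdual]
    have e : CharacterModule.dual (ι₀ R S P) (σ sec P (CharacterModule.dual d w)) = CharacterModule.dual d w := by
      ext n; exact σ_one_tmul hsec P _ n
    rw [e, show CharacterModule.dual A (σ sec P (CharacterModule.dual d w)) = 0 from hp0, zero_sub, neg_neg]
  refine ⟨CharacterModule.dual_surjective_iff_injective.1 fun ψ => ?_, fun x hx => ?_⟩
  · have hsurj : Function.Surjective res := CharacterModule.dual_surjective_of_injective _ K.injective_subtype
    have hker : LinearMap.ker res ≤ LinearMap.ker p := fun χ hχ => by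
      obtain ⟨w, rfl⟩ := hrange χ hχ
      show p _ = 0
      rw [hdual, map_sub, hp, sub_self]
    let sect := (LinearMap.ker res).liftQ p hker ∘ₗ (res.quotKerEquivOfSurjective hsurj).symm.toLinearMap
    have hsect : ∀ χ, res (sect χ) = χ := fun χ => by
      obtain ⟨χ', rfl⟩ := hsurj χ
      have : (res.quotKerEquivOfSurjective hsurj).symm (res χ') = Submodule.Quotient.mk χ' :=
        (LinearEquiv.symm_apply_eq _).2 rfl
      show res ((LinearMap.ker res).liftQ p hker ((res.quotKerEquivOfSurjective hsurj).symm (res χ'))) = _
      rw [this]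
      exact hres χ'
    refine ⟨CharacterModule.uncurry (sect ∘ₗ CharacterModule.curry ψ), ?_⟩
    ext z
    induction z using TensorProduct.induction_on with
    | zero => simp
    | tmul s k => exact congr($(hsect (CharacterModule.curry ψ s)) k)
    | add a b ha hb => rw [map_add, map_add, ha, hb]
  · rw [← Submodule.Quotient.mk_eq_zero]
    refine CharacterModule.eq_zero_of_character_apply fun c => ?_
    let ψ : CharacterModule (S ⊗[R] P) := CharacterModule.dual (LinearMap.range (K.subtype.lTensor S)).mkQ c
    let W : S →ₗ[R] CharacterModule (S ⊗[R] P) := -(σ sec P ∘ₗ CharacterModule.curry ψ)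
    have hW : ∀ s, CharacterModule.dual d (W s) = CharacterModule.curry ψ s := fun s => by
      refine hnorm _ ?_
      ext k
      show c (Submodule.Quotient.mk (s ⊗ₜ[R] (k : P))) = 0
      have hm : (Submodule.Quotient.mk (s ⊗ₜ[R] (k : P)) : _ ⧸ LinearMap.range (K.subtype.lTensor S)) = 0 :=
        (Submodule.Quotient.mk_eq_zero _).2 (LinearMap.mem_range.2 ⟨s ⊗ₜ[R] k, rfl⟩)
      rw [hm, map_zero]
    have e : ψ = CharacterModule.dual (d.lTensor S) (CharacterModule.uncurry W) := by
      ext z
      induction z using TensorProduct.induction_on with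
      | zero => simp
      | tmul s n => exact congr($((hW s).symm) n)
      | add a b ha hb => rw [map_add, map_add, ha, hb]
    show ψ x = 0
    rw [e]
    show CharacterModule.uncurry W (d.lTensor S x) = 0
    rw [hx, map_zero]

/-- The fork `P → S ⊗ P ⇉ S ⊗ S ⊗ P` is exact. -/
theorem fork_exact (h : Pi1.UnivInjective R S) (x : S ⊗[R] P)
    (hx : (ι₀ R S P).lTensor S x = ι₀ R S (S ⊗[R] P) x) : ∃ m, ι₀ R S P m = x := by
  let Q := LinearMap.range (ι₀ R S P)
  have h0 : ι₀ R S (_ ⧸ Q) (Q.mkQ x) = 0 := by
    have e1 : ι₀ R S (_ ⧸ Q) (Q.mkQ x) = Q.mkQ.lTensor S (ι₀ R S (S ⊗[R] P) x) := rfl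
    rw [e1, ← hx, ← LinearMap.comp_apply, ← LinearMap.lTensor_comp,
      show Q.mkQ ∘ₗ ι₀ R S P = 0 from LinearMap.ext fun m => (Submodule.Quotient.mk_eq_zero _).2 ⟨m, rfl⟩]
    simp
  have := ι₀_injective h _ (h0.trans (map_zero _).symm)
  exact LinearMap.mem_range.1 ((Submodule.Quotient.mk_eq_zero _).1 this)

end Groth.Agent.ModDescent
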