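import Groth.Agent.ModDescent.Effective
import Groth.Agent.ModDescent.Split

/-!
# The descent theorem for modules
-/

set_option autoImplicit false
set_option linter.style.haveILetI false
set_option backward.isDefEq.respectTransparency false
set_option backward.isDefEq.respectTransparency.types false

universe u

open CategoryTheory Opposite TensorProduct ChangeOfRings ModuleCat

namespace Groth.Agent.ModDescent

section

/-- The glueing of a canonical datum, on elements. -/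
theorem φ_ofObj_one_tmul {R S T : CommRingCat.{u}} {p : R ⟶ S} (K : ModuleCat.{u} R) (f₁ f₂ : S ⟶ T) (h : p ≫ f₁ = p ≫ f₂) (m : K) :
    (φ ((Desc.ringModPF.{u}.toDescentData (fun _ : PUnit.{u + 1} => p.op)).obj K) f₁ f₂ h).hom
      ((1 : T) ⊗ₜ[S, f₁.hom] ((1 : S) ⊗ₜ[R, p.hom] m)) = (1 : T) ⊗ₜ[S, f₂.hom] ((1 : S) ⊗ₜ[R, p.hom] m) := by
  have e : φ ((Desc.ringModPF.{u}.toDescentData (fun _ : PUnit.{u + 1} => p.op)).obj K) f₁ f₂ h =
      (Desc.ringModPF.{u}.mapComp' p.op.op.toLoc f₁.op.op.toLoc (p ≫ f₁).op.op.toLoc rfl).inv.toNatTrans.app K ≫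
        (Desc.ringModPF.{u}.mapComp' p.op.op.toLoc f₂.op.op.toLoc (p ≫ f₁).op.op.toLoc (by rw [h]; rfl)).hom.toNatTrans.app K := rfl
  rw [e]
  refine (congrArg (((Desc.ringModPF.{u}.mapComp' p.op.op.toLoc f₂.op.op.toLoc (p ≫ f₁).op.op.toLoc (by rw [h]; rfl)).hom.toNatTrans.app K).hom) (mapComp'_inv_one_tmul p f₁ (p ≫ f₁) rfl K 1 m)).trans ?_
  rw [map_one]
  exact mapComp'_hom_one_tmul p f₂ (p ≫ f₁) h.symm K m

end

variable {R S : Type u} [CommRing R] [CommRing S] [Algebra R S]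

/-- The linear map of a morphism of descent data. -/
noncomputable abbrev lin {D D' : DD R S} (ψ : D ⟶ D') : N D →ₗ[S] N D' := (ψ.hom PUnit.unit).hom

/-- The coaction is natural. -/
theorem α_natural {D D' : DD R S} (ψ : D ⟶ D') (n : N D) :
    α D' (lin ψ n) = LinearMap.lTensor S ((lin ψ).restrictScalars R) (α D n) := by
  have hc := congr(($(ψ.comm (CommRingCat.ofHom (algebraMap R S) ≫ j₁ (R := R) (S := S)).op (i₁ := PUnit.unit) (i₂ := PUnit.unit)
    (j₁ (R := R) (S := S)).op (j₂ (R := R) (S := S)).op rfl (by rw [j_comp]; rfl))).hom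
      ((1 : T₂ (R := R) (S := S)) ⊗ₜ[S, (j₁ (R := R) (S := S)).hom] n))
  have key : ∀ z, κ D' (((extendScalars (j₂ (R := R) (S := S)).hom).map (ψ.hom PUnit.unit)).hom z) =
      LinearMap.lTensor S ((lin ψ).restrictScalars R) (κ D z) := by
    intro z
    letI : Module S (T₂ (R := R) (S := S)) := Module.compHom _ (j₂ (R := R) (S := S)).hom
    induction z using TensorProduct.induction_on with
    | zero => exact (congrArg _ (map_zero _)).trans ((map_zero _).trans ((congrArg _ (map_zero (κ D))).trans (map_zero _)).symm)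
    | tmul x m =>
      induction x using TensorProduct.induction_on with
      | zero =>
        rw [TensorProduct.zero_tmul]
        exact (congrArg _ (map_zero _)).trans ((map_zero _).trans ((congrArg _ (map_zero (κ D))).trans (map_zero _)).symm)
      | tmul a b =>
        refine (κ_tmul D' a b (lin ψ m)).trans ?_
        refine Eq.trans ?_ (congrArg _ (κ_tmul D a b m)).symm
        show _ = a ⊗ₜ[R] lin ψ (b • m)
        rw [map_smul]
      | add x y hx hy =>
        rw [TensorProduct.add_tmul]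
        refine (congrArg _ (map_add _ _ _)).trans ((map_add _ _ _).trans ((congrArg₂ _ hx hy).trans ?_))
        exact ((congrArg _ (map_add (κ D) _ _)).trans (map_add _ _ _)).symm
    | add z w hz hw =>
      refine (congrArg _ (map_add _ _ _)).trans ((map_add _ _ _).trans ((congrArg₂ _ hz hw).trans ?_))
      exact ((congrArg _ (map_add (κ D) _ _)).trans (map_add _ _ _)).symm
  exact (congrArg (κ D') hc).trans (key _)

theorem e_bijective_of_univInjective (h : Pi1.UnivInjective R S) (D : DD R S) : Function.Bijective (e D) := by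
  obtain ⟨sec, hsec⟩ := exists_section h
  obtain ⟨h1, h2⟩ := split_core hsec ((α D).restrictScalars R) (coassoc D)
  exact e_bijective D h1 h2

theorem α_eq_of_φ (D : DD R S) (n : N D)
    (hn : (φ D j₁ j₂ j_comp).hom ((1 : T₂ (R := R) (S := S)) ⊗ₜ[S, (j₁ (R := R) (S := S)).hom] n) =
      (1 : T₂ (R := R) (S := S)) ⊗ₜ[S, (j₂ (R := R) (S := S)).hom] n) : α D n = (1 : S) ⊗ₜ[R] n := by
  refine (congrArg (κ D) hn).trans ?_
  refine (κ_tmul D 1 1 n).trans ?_
  rw [one_smul]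

/-- A morphism between descent data of modules comes from the modules. -/
theorem exists_descend_hom (h : Pi1.UnivInjective R S) {DP DQ : DD R S} (ψ : DP ⟶ DQ)
    {P Q : Type u} [AddCommGroup P] [Module R P] [AddCommGroup Q] [Module R Q]
    (EP : S ⊗[R] P →ₗ[S] N DP) (hP : ∀ m, α DP (EP ((1 : S) ⊗ₜ[R] m)) = (1 : S) ⊗ₜ[R] EP ((1 : S) ⊗ₜ[R] m))
    (EQ : S ⊗[R] Q ≃ₗ[S] N DQ) (hQ : ∀ m, α DQ (EQ ((1 : S) ⊗ₜ[R] m)) = (1 : S) ⊗ₜ[R] EQ ((1 : S) ⊗ₜ[R] m)) :
    ∃ g : P →ₗ[R] Q, ∀ m, lin ψ (EP ((1 : S) ⊗ₜ[R] m)) = EQ ((1 : S) ⊗ₜ[R] g m) := by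
  let E' := EQ.restrictScalars R
  have hQ' : ∀ z, α DQ (EQ z) = E'.toLinearMap.lTensor S ((ι₀ R S Q).lTensor S z) := by
    intro z
    induction z using TensorProduct.induction_on with
    | zero => simp
    | tmul a m =>
      have e : (a ⊗ₜ[R] m : S ⊗[R] Q) = a • ((1 : S) ⊗ₜ[R] m) := by rw [TensorProduct.smul_tmul', smul_eq_mul, mul_one]
      rw [LinearMap.lTensor_tmul, LinearMap.lTensor_tmul, e, map_smul, map_smul, hQ, TensorProduct.smul_tmul', smul_eq_mul, mul_one]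
      rfl
    | add z w hz hw => simp only [map_add, hz, hw]
  have hfix : ∀ m : P, ∃ m' : Q, ι₀ R S Q m' = EQ.symm (lin ψ (EP ((1 : S) ⊗ₜ[R] m))) := by
    intro m
    refine fork_exact h _ ((E'.lTensor S).injective ?_)
    refine (hQ' _).symm.trans ?_
    rw [LinearEquiv.apply_symm_apply, α_natural, hP]
    show (1 : S) ⊗ₜ[R] lin ψ (EP ((1 : S) ⊗ₜ[R] m)) = (1 : S) ⊗ₜ[R] EQ (EQ.symm (lin ψ (EP ((1 : S) ⊗ₜ[R] m))))
    rw [LinearEquiv.apply_symm_apply]
  choose g hg using hfix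
  refine ⟨⟨⟨g, fun a b => ι₀_injective h Q ?_⟩, fun r a => ι₀_injective h Q ?_⟩, fun m => ?_⟩
  · rw [map_add, hg, hg, hg, TensorProduct.tmul_add, map_add, map_add, map_add]
  · show ι₀ R S Q (g (r • a)) = ι₀ R S Q (r • g a)
    rw [map_smul, hg, hg, TensorProduct.tmul_smul, ← algebraMap_smul S r ((1 : S) ⊗ₜ[R] a), map_smul, map_smul, map_smul,
      algebraMap_smul]
  · exact ((congrArg EQ (hg m)).trans (EQ.apply_symm_apply _)).symm

/-- The functor to descent data. -/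
noncomputable abbrev toDD {R S : Type u} [CommRing R] [CommRing S] (f : R →+* S) :
    ModuleCat.{u} R ⥤ Desc.ringModPF.{u}.DescentData (fun _ : PUnit.{u + 1} => (CommRingCat.ofHom f).op) :=
  Desc.ringModPF.{u}.toDescentData (fun _ : PUnit.{u + 1} => (CommRingCat.ofHom f).op)

theorem univInjective_of_fullyFaithful {R S : Type u} [CommRing R] [CommRing S] (f : R →+* S) (hff : (toDD f).Faithful) :
    letI := f.toAlgebra; Pi1.UnivInjective R S := by
  letI : Algebra R S := f.toAlgebra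
  intro P _ _
  rw [injective_iff_map_eq_zero]
  intro z hz
  obtain ⟨x, rfl⟩ : ∃ x : P, x ⊗ₜ[R] (1 : R) = z := ⟨TensorProduct.rid R P z, (TensorProduct.rid R P).symm_apply_apply z⟩
  have hx : (1 : S) ⊗ₜ[R] x = 0 := by
    have := congrArg (TensorProduct.comm R P S) hz
    simpa using this
  let g : ModuleCat.of R R ⟶ ModuleCat.of R P := ModuleCat.ofHom (LinearMap.toSpanSingleton R P x)
  have : (toDD f).map g = (toDD f).map 0 := by
    ext ⟨⟩ : 1
    apply ModuleCat.ExtendScalars.hom_ext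
    intro r
    show (1 : S) ⊗ₜ[R] (r • x) = (1 : S) ⊗ₜ[R] (0 : P)
    rw [TensorProduct.tmul_smul, hx, smul_zero, TensorProduct.tmul_zero]
  have h0 : g = 0 := hff.map_injective this
  have := congr(($h0).hom (1 : R))
  simp only [g, ModuleCat.hom_ofHom, LinearMap.toSpanSingleton_apply, one_smul, ModuleCat.hom_zero, LinearMap.zero_apply] at this
  rw [this, TensorProduct.zero_tmul]

theorem essSurj_of_univInjective {R S : Type u} [CommRing R] [CommRing S] (f : R →+* S)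
    (h : letI := f.toAlgebra; Pi1.UnivInjective R S) : (toDD f).EssSurj := by
  letI : Algebra R S := f.toAlgebra
  exact ⟨fun D => by
    obtain ⟨M, hM⟩ := effective_of_bijective f D (e_bijective_of_univInjective h D)
    exact ⟨M, hM⟩⟩

theorem faithful_of_univInjective {R S : Type u} [CommRing R] [CommRing S] (f : R →+* S)
    (h : letI := f.toAlgebra; Pi1.UnivInjective R S) : (toDD f).Faithful := by
  letI : Algebra R S := f.toAlgebra
  exact ⟨fun {P Q} g g' hg => by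
    refine ModuleCat.hom_ext (LinearMap.ext fun m => ι₀_injective h Q ?_)
    exact congr((($hg).hom PUnit.unit).hom ((1 : S) ⊗ₜ[R] m))⟩

/-- The carrier of a canonical datum. -/
noncomputable def canEquiv {R S : Type u} [CommRing R] [CommRing S] (f : R →+* S) (K : ModuleCat.{u} R) :
    letI := f.toAlgebra
    S ⊗[R] K ≃ₗ[S] N (R := CommRingCat.of R) (S := CommRingCat.of S) (p := CommRingCat.ofHom f) ((toDD f).obj K) :=
  letI := f.toAlgebra
  LinearEquiv.refl S _
theorem φ_canEquiv {R S : Type u} [CommRing R] [CommRing S] (f : R →+* S) (K : ModuleCat.{u} R) (m : K)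
    {T : CommRingCat.{u}} (f₁ f₂ : CommRingCat.of S ⟶ T) (h : CommRingCat.ofHom f ≫ f₁ = CommRingCat.ofHom f ≫ f₂) :
    letI := f.toAlgebra
    (φ (p := CommRingCat.ofHom f) ((toDD f).obj K) f₁ f₂ h).hom ((1 : T) ⊗ₜ[S, f₁.hom] canEquiv f K ((1 : S) ⊗ₜ[R] m)) =
      (1 : T) ⊗ₜ[S, f₂.hom] canEquiv f K ((1 : S) ⊗ₜ[R] m) :=
  φ_ofObj_one_tmul (p := CommRingCat.ofHom f) K f₁ f₂ h m
theorem exists_descend_hom' {R S : Type u} [CommRing R] [CommRing S] (f : R →+* S) :
    letI := f.toAlgebra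
    ∀ (_ : Pi1.UnivInjective R S) (DP DQ : Desc.ringModPF.{u}.DescentData (fun _ : PUnit.{u + 1} => (CommRingCat.ofHom f).op)) (ψ : DP ⟶ DQ)
    (P Q : Type u) [AddCommGroup P] [Module R P] [AddCommGroup Q] [Module R Q]
    (EP : S ⊗[R] P ≃ₗ[S] N (p := CommRingCat.ofHom f) DP)
    (_ : ∀ (T : CommRingCat.{u}) (f₁ f₂ : CommRingCat.of S ⟶ T) (h : CommRingCat.ofHom f ≫ f₁ = CommRingCat.ofHom f ≫ f₂) (m : P),
      (φ (p := CommRingCat.ofHom f) DP f₁ f₂ h).hom ((1 : T) ⊗ₜ[S, f₁.hom] EP ((1 : S) ⊗ₜ[R] m)) = (1 : T) ⊗ₜ[S, f₂.hom] EP ((1 : S) ⊗ₜ[R] m))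
    (EQ : S ⊗[R] Q ≃ₗ[S] N (p := CommRingCat.ofHom f) DQ)
    (_ : ∀ (T : CommRingCat.{u}) (f₁ f₂ : CommRingCat.of S ⟶ T) (h : CommRingCat.ofHom f ≫ f₁ = CommRingCat.ofHom f ≫ f₂) (m : Q),
      (φ (p := CommRingCat.ofHom f) DQ f₁ f₂ h).hom ((1 : T) ⊗ₜ[S, f₁.hom] EQ ((1 : S) ⊗ₜ[R] m)) = (1 : T) ⊗ₜ[S, f₂.hom] EQ ((1 : S) ⊗ₜ[R] m)),
    ∃ g : P →ₗ[R] Q, ∀ m, (ψ.hom PUnit.unit).hom (EP ((1 : S) ⊗ₜ[R] m)) = EQ ((1 : S) ⊗ₜ[R] g m) :=
  letI := f.toAlgebra
  fun h DP DQ ψ P Q _ _ _ _ EP hP EQ hQ =>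
    exists_descend_hom h (DP := DP) (DQ := DQ) ψ EP.toLinearMap
      (fun m => α_eq_of_φ (R := R) (S := S) DP _ (hP _ j₁ j₂ j_comp m)) EQ
      (fun m => α_eq_of_φ (R := R) (S := S) DQ _ (hQ _ j₁ j₂ j_comp m))

theorem full_of_univInjective {R S : Type u} [CommRing R] [CommRing S] (f : R →+* S)
    (h : letI := f.toAlgebra; Pi1.UnivInjective R S) : (toDD f).Full :=
  letI : Algebra R S := f.toAlgebra
  ⟨fun {P Q} ψ => by
    obtain ⟨g, hg⟩ := exists_descend_hom' f h ((toDD f).obj P) ((toDD f).obj Q) ψ P Q (canEquiv f P)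
      (fun T f₁ f₂ h m => φ_canEquiv f P m f₁ f₂ h) (canEquiv f Q)
      (fun T f₁ f₂ h m => φ_canEquiv f Q m f₁ f₂ h)
    refine ⟨ModuleCat.ofHom g, ?_⟩
    ext ⟨⟩ : 1
    apply ModuleCat.ExtendScalars.hom_ext
    intro m
    exact (hg m).symm⟩

theorem isEquivalence_of_univInjective {R S : Type u} [CommRing R] [CommRing S] (f : R →+* S)
    (h : letI := f.toAlgebra; Pi1.UnivInjective R S) : (toDD f).IsEquivalence :=
  { full := full_of_univInjective f h, faithful := faithful_of_univInjective f h, essSurj := essSurj_of_univInjective f h }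

end Groth.Agent.ModDescent
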